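import Groth.Prelude.Def_Red
import Groth.Prelude.Def_Par
import Groth.Prelude.Def_RedSub
import Groth.Agent.S4141
import Groth.Agent.S3972
import Groth.Agent.AGF.K501.RadSch
import Groth.Agent.Sga3B.AlgBc2
import Groth.Agent.Sga3B.MaxTorNear900
import Groth.Agent.AlgGrp.K404.GAnt

/-!
# Connected groups without normal connected unipotent or semisimple subgroups are commutative
-/

set_option autoImplicit false
universe u

open CategoryTheory CategoryTheory.Limits MonoidalCategory CartesianMonoidalCategory MonObj GrpObj AlgebraicGeometry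

namespace K204.NoNice

open Groth.Agent

section conj

variable {S : Scheme.{u}} {L G : Over S} [GrpObj L] [GrpObj G] (l : L ⟶ G) [IsMonHom l] [Mono l]

/-- Conjugation by a section of `G` on a normal subgroup. -/
theorem exists_conj (hn : AlgGrp.IsNormalHom l) (g : 𝟙_ (Over S) ⟶ G) :
    ∃ c : L ≅ L, IsMonHom c.hom ∧ ∀ (T : Over S) (x : T ⟶ L),
      x ≫ c.hom ≫ l = (toUnit T ≫ g) * (x ≫ l) * (toUnit T ≫ g)⁻¹ := by
  have key : ∀ g : 𝟙_ (Over S) ⟶ G, ∃ c : L ⟶ L, ∀ (T : Over S) (x : T ⟶ L),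
      x ≫ c ≫ l = (toUnit T ≫ g) * (x ≫ l) * (toUnit T ≫ g)⁻¹ := by
    intro g
    obtain ⟨c, hc⟩ := hn L (toUnit L ≫ g) (𝟙 L)
    refine ⟨c, fun T x => ?_⟩
    rw [← hc, MonObj.comp_mul, MonObj.comp_mul, GrpObj.comp_inv, ← Category.assoc x (toUnit L) g,
      toUnit_unique (x ≫ toUnit L) (toUnit T), Category.id_comp]
  obtain ⟨c, hc⟩ := key g
  obtain ⟨c', hc'⟩ := key g⁻¹
  have h1 : c ≫ c' = 𝟙 L := by
    rw [← cancel_mono l, Category.assoc, hc' L c]
    have h := hc L (𝟙 L)
    rw [Category.id_comp, Category.id_comp] at h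
    rw [h, GrpObj.comp_inv, Category.id_comp]
    group
  have h2 : c' ≫ c = 𝟙 L := by
    rw [← cancel_mono l, Category.assoc, hc L c']
    have h := hc' L (𝟙 L)
    rw [Category.id_comp, Category.id_comp] at h
    rw [h, GrpObj.comp_inv, Category.id_comp]
    group
  refine ⟨⟨c, c', h1, h2⟩, ?_, hc⟩
  refine Sga3B.Pts.isMonHom_of_points _ fun T x y => ?_
  change (x * y) ≫ c = (x ≫ c) * (y ≫ c)
  rw [← cancel_mono l, Category.assoc, hc, MonObj.mul_comp, MonObj.mul_comp, Category.assoc, Category.assoc, hc, hc]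
  group

end conj

variable {k : Type u} [Field k] [IsAlgClosed k]

/-- A unipotent radical of a normal subgroup is normal. -/
theorem isNormalHom_radical {U L G : Over (Spec (CommRingCat.of k))} [GrpObj U] [GrpObj L] [GrpObj G]
    [Smooth G.hom] (l : L ⟶ G) [IsMonHom l] [IsClosedImmersion l.left] (hn : AlgGrp.IsNormalHom l)
    (u : U ⟶ L) (hU : Par.IsUnipotentRadical u) : AlgGrp.IsNormalHom (u ≫ l) := by
  obtain ⟨h1, h2, h3, h4, h5, h6, h7⟩ := hU
  have hm : Mono l := Books.AlgPtsGrp.mono_of_isClosedImmersion l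
  have hcl : IsClosedImmersion (u ≫ l).left := by rw [Over.comp_left]; infer_instance
  apply Sga3B.RG.BrPts.isNormalHom_of_points
  intro g n
  obtain ⟨c, hc1, hc2⟩ := exists_conj l hn g
  have hcl' : IsClosedImmersion (u ≫ c.hom).left := by rw [Over.comp_left]; infer_instance
  obtain ⟨f, hf⟩ := h7 U (u ≫ c.hom) hcl' (Sga3B.RG.BrRed2.isNormalHom_comp_iso u c h3) h4 h5 h6
  refine ⟨n ≫ f, ?_⟩
  have h := hc2 _ (n ≫ u)
  rw [toUnit_unique (toUnit (𝟙_ (Over (Spec (CommRingCat.of k))))) (𝟙 _), Category.id_comp] at h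
  simp only [Category.assoc] at h ⊢
  rw [← h, reassoc_of% hf]

/-- The derived group of a normal subgroup is normal. -/
theorem isNormalHom_derived {D L G C : Over (Spec (CommRingCat.of k))} [GrpObj D] [GrpObj L] [GrpObj G] [GrpObj C]
    [Smooth G.hom] [Smooth D.hom] (l : L ⟶ G) [IsMonHom l] [IsClosedImmersion l.left] (hn : AlgGrp.IsNormalHom l)
    (d : D ⟶ L) [IsMonHom d] [IsClosedImmersion d.left] (f₀ : L ⟶ C) [IsMonHom f₀] (hk : AlgGrp.IsKernel d f₀)
    (hC : ∀ (X : Over (Spec (CommRingCat.of k))) (a b : X ⟶ C), a * b = b * a)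
    (hkill : RedSub.KilledByCommutative d) : AlgGrp.IsNormalHom (d ≫ l) := by
  have hm : Mono l := Books.AlgPtsGrp.mono_of_isClosedImmersion l
  have hcl : IsClosedImmersion (d ≫ l).left := by rw [Over.comp_left]; infer_instance
  apply Sga3B.RG.BrPts.isNormalHom_of_points
  intro g n
  obtain ⟨c, hc1, hc2⟩ := exists_conj l hn g
  have h1 : d ≫ c.hom ≫ f₀ = 1 := hkill C (c.hom ≫ f₀) hC
  have h2 : (n ≫ d ≫ c.hom) ≫ f₀ = toUnit _ ≫ η[C] := by
    simp only [Category.assoc]
    rw [h1, MonObj.comp_one]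
    rfl
  refine ⟨hk.lift _ _ h2, ?_⟩
  have h := hc2 _ (n ≫ d)
  rw [toUnit_unique (toUnit (𝟙_ (Over (Spec (CommRingCat.of k))))) (𝟙 _), Category.id_comp] at h
  rw [← Category.assoc n d l, ← h, ← Category.assoc _ d l, hk.lift_fst]
  simp only [Category.assoc]

/-- P6. a connected group without normal connected unipotent and semisimple subgroups is commutative -/
theorem isCommMonObj_of_no_nice (k : Type u) [Field k] [IsAlgClosed k]
    (G : Over (Spec (CommRingCat.of k))) [GrpObj G] [Smooth G.hom] [QuasiCompact G.hom] [ConnectedSpace ↥G.left]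
    (hu : ∀ (N : Over (Spec (CommRingCat.of k))) [GrpObj N] (i : N ⟶ G) [IsMonHom i], IsClosedImmersion i.left →
      Smooth N.hom → ConnectedSpace ↥N.left → IsAffine N.left → AlgGrp.IsNormalHom i → Red.HasNoSubtorus k N →
        Red.IsTrivialGrp N)
    (hs : ∀ (N : Over (Spec (CommRingCat.of k))) [GrpObj N] (i : N ⟶ G) [IsMonHom i], IsClosedImmersion i.left →
      AlgGrp.IsNormalHom i → Red.IsSemisimpleOver k N → Red.IsTrivialGrp N) :
    ∀ (T : Over (Spec (CommRingCat.of k))) (x y : T ⟶ G), x * y = y * x := by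
  obtain ⟨L, _, l, Q, _, q, hl1, hl2, hl3, hl4, hl5, hl6, hq1, hq2, hq3, hker, hQ1, hQ2, hQ3, -⟩ := S4141.result k G
  have hlm : Mono l := Books.AlgPtsGrp.mono_of_isClosedImmersion l
  -- `L` is reductive
  have hred : Red.IsReductiveOver k L := by
    obtain ⟨U, _, u, hU⟩ := K501.RadSch.exists_isUnipotentRadical L
    obtain ⟨hu1, hu2, hu3, hu4, hu5, hu6, hu7⟩ := id hU
    obtain ⟨hu8, hu9⟩ := (K501.RadSch.fib_iff U).1 hu6
    have hcl : IsClosedImmersion (u ≫ l).left := by rw [Over.comp_left]; infer_instance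
    have haff : IsAffine U.left := isAffine_of_isAffineHom u.left
    have htriv : IsIso U.hom := hu U (u ≫ l) hcl hu4 hu8 haff (isNormalHom_radical l hl6 u hU) hu9
    refine ⟨hl3, hl4, hl5, fun V _ v _ hv1 hv2 hv3 hv4 hv5 => ?_⟩
    have hVq : QuasiCompact V.hom := by
      have : QuasiCompact L.hom := inferInstance
      rw [← Over.w v]
      infer_instance
    obtain ⟨f, hf⟩ := hu7 V v hv1 hv4 hv2 hVq ((K501.RadSch.fib_iff V).2 ⟨hv3, hv5⟩)
    have hvm : Mono v := Books.AlgPtsGrp.mono_of_isClosedImmersion v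
    have hfm : Mono f := mono_of_mono_fac hf
    -- `V` embeds in the trivial group
    have h1 : ∀ {T : Over (Spec (CommRingCat.of k))} (a b : T ⟶ U), a = b := by
      intro T a b
      ext1
      rw [← cancel_mono U.hom, Over.w, Over.w]
    have h2 : η[V] ≫ toUnit V = 𝟙 _ := toUnit_unique _ _
    have h3 : toUnit V ≫ η[V] = 𝟙 V := by
      rw [← cancel_mono f]
      exact h1 _ _
    have h4 : IsIso (toUnit V) := ⟨η[V], h3, h2⟩
    have h5 : (toUnit V).left ≫ (𝟙_ (Over (Spec (CommRingCat.of k)))).hom = V.hom := Over.w (toUnit V)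
    have h6 : IsIso (toUnit V).left := inferInstanceAs (IsIso ((Over.forget _).map (toUnit V)))
    change IsIso V.hom
    rw [← h5]
    have h7 : IsIso (𝟙_ (Over (Spec (CommRingCat.of k)))).hom := inferInstanceAs (IsIso (𝟙 _))
    infer_instance
  -- the derived group
  obtain ⟨C, _, f₀, D, _, d, hf1, hC, hf2, hf3, hd1, hd2, hdk, hdss, hkill, -, -⟩ :=
    S3972.result L (Sga3B.AlgBc.isReductive_iff.2 hred)
  have hCc := Sga3B.MaxTorNear900.mul_comm_of_isTorus hC
  have hDs : Smooth D.hom := hdss.2.1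
  have hcl : IsClosedImmersion (d ≫ l).left := by rw [Over.comp_left]; infer_instance
  have hDt : IsIso D.hom := hs D (d ≫ l) hcl (isNormalHom_derived l hl6 d f₀ hdk hCc hkill)
    (Sga3B.AlgBc.isSemisimple_iff.1 hdss)
  have hf0 : Mono f₀ := by
    refine ⟨fun {T} x y hxy => ?_⟩
    have h1 : (x * y⁻¹) ≫ f₀ = toUnit _ ≫ η[C] := by
      rw [MonObj.mul_comp, GrpObj.inv_comp, hxy, mul_inv_cancel]
      rfl
    have h2 : hdk.lift _ _ h1 = 1 := by
      ext1
      rw [← cancel_mono D.hom, Over.w, Over.w]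
    have h3 := hdk.lift_fst _ _ h1
    rw [h2, MonObj.one_comp] at h3
    exact (mul_inv_eq_one.1 h3.symm)
  have hCC : IsCommMonObj C := ⟨by
    have h1 := hCc (C ⊗ C) (fst C C) (snd C C)
    have h2 : (fst C C * snd C C : C ⊗ C ⟶ C) = μ := by
      rw [Hom.mul_def, lift_fst_snd, Category.id_comp]
    have h3 : (snd C C * fst C C : C ⊗ C ⟶ C) = (β_ C C).hom ≫ μ := by
      rw [Hom.mul_def]
      congr 1
    rw [← h3, ← h1, h2]⟩
  have hLc : IsCommMonObj L := Sga3.H830.CommAux.isCommMonObj_of_mono f₀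
  -- the anti-affine part
  obtain ⟨M, R, _, _, n, r, haf⟩ := K398.Affin.exists_affSeq G
  have hn1 := haf.homN
  have hMc := haf.comm
  have hcomm : ∀ {T : Over (Spec (CommRingCat.of k))} (x : T ⟶ M) (g : T ⟶ G), (x ≫ n) * g = g * (x ≫ n) :=
    fun x g => K404.GAnt.commute k haf x g
  have hfm : IsMonHom ((l ⊗ₘ n) ≫ μ[G]) := K404.AbAff.isMonHom_mul l n (fun T x y => (hcomm y (x ≫ l)).symm)
  have hsur := K398.Rosen.surjective_mul l q hker haf
  have hG : IsCommMonObj G :=
    AlgGrp.K411.IsogWord.isCommMonObj_of_surjective ((l ⊗ₘ n) ≫ μ[G]) (inferInstance : IsCommMonObj (L ⊗ M))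
  intro T x y
  exact _root_.mul_comm x y

end K204.NoNice

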